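import Mathlib

/-!
Finite modules with isomorphic completions are isomorphic.
-/

set_option autoImplicit false
set_option linter.all false
set_option backward.isDefEq.respectTransparency.types false

universe u

namespace Groth.Agent.ElkikModLib

open TensorProduct

variable {R C : Type u} [CommRing R] [CommRing C] [Algebra R C] (J : Ideal R)

theorem exists_one_tmul_approx (hC : ∀ c : C, ∃ r : R, c - algebraMap R C r ∈ J.map (algebraMap R C))
    {K : Type u} [AddCommGroup K] [Module R K] (w : C ⊗[R] K) :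
    ∃ k : K, w - (1 : C) ⊗ₜ k ∈ (J • ⊤ : Submodule R (C ⊗[R] K)) := by
  induction w using TensorProduct.induction_on with
  | zero => exact ⟨0, by simp⟩
  | add x y hx hy =>
    obtain ⟨k, hk⟩ := hx
    obtain ⟨l, hl⟩ := hy
    exact ⟨k + l, by rw [tmul_add, add_sub_add_comm]; exact add_mem hk hl⟩
  | tmul c k =>
    obtain ⟨r, hr⟩ := hC c
    refine ⟨r • k, ?_⟩
    rw [← smul_tmul, ← sub_tmul, ← Algebra.algebraMap_eq_smul_one]
    have h1 : c - algebraMap R C r ∈ (J • ⊤ : Submodule R C) := by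
      rw [Ideal.smul_top_eq_map, Submodule.restrictScalars_mem]; exact hr
    have h2 := Submodule.mem_map_of_mem (f := (TensorProduct.mk R C K).flip k) h1
    rw [Submodule.map_smul''] at h2
    exact Submodule.smul_mono le_rfl le_top h2

theorem exists_hom_approx [IsNoetherianRing R] [Module.Flat R C]
    (hC : ∀ c : C, ∃ r : R, c - algebraMap R C r ∈ J.map (algebraMap R C))
    {P Q : Type u} [AddCommGroup P] [Module R P] [AddCommGroup Q] [Module R Q] [Module.Finite R P]
    (Φ : C ⊗[R] P →ₗ[C] C ⊗[R] Q) :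
    ∃ f : P →ₗ[R] Q, ∀ p, Φ (1 ⊗ₜ p) - 1 ⊗ₜ f p ∈ (J • ⊤ : Submodule R (C ⊗[R] Q)) := by
  classical
  obtain ⟨b, π, hπ⟩ := Module.Finite.exists_fin' R P
  obtain ⟨a, r, hr⟩ := Submodule.fg_iff_exists_fin_generating_family.1
    (IsNoetherian.noetherian (LinearMap.ker π))
  let Λ : (Fin b → Q) →ₗ[R] (Fin a → Q) :=
    LinearMap.pi fun k => ∑ i, r k i • LinearMap.proj i
  let sQ : Fin b → (Q →ₗ[R] (Fin b → Q)) := LinearMap.single R (fun _ => Q)
  let x : Fin b → C ⊗[R] Q := fun i => Φ (1 ⊗ₜ π (Pi.single i 1))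
  let z : C ⊗[R] (Fin b → Q) := ∑ i, (sQ i).lTensor C (x i)
  have hΛs : ∀ i, Λ ∘ₗ sQ i = ∑ k, r k i • LinearMap.single R (fun _ : Fin a => Q) k := fun i => by
    refine LinearMap.ext fun q => funext fun k => ?_
    simp only [Λ, sQ, LinearMap.comp_apply, LinearMap.pi_apply, LinearMap.coe_sum, Finset.sum_apply,
      LinearMap.smul_apply, LinearMap.proj_apply, LinearMap.coe_single, Pi.smul_apply]
    rw [Finset.sum_eq_single i (fun j _ hj => by rw [Pi.single_eq_of_ne hj, smul_zero]) (by simp),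
      Finset.sum_eq_single k (fun l _ hl => by rw [Pi.single_eq_of_ne (Ne.symm hl), smul_zero]) (by simp),
      Pi.single_eq_same, Pi.single_eq_same]
  have hrel : ∀ k, ∑ i, r k i • x i = 0 := fun k => by
    have h0 : π (r k) = 0 := LinearMap.mem_ker.1 (hr ▸ Submodule.subset_span ⟨k, rfl⟩)
    rw [pi_eq_sum_univ' (r k), map_sum] at h0
    simp only [map_smul] at h0
    have h1 := congrArg (fun p => Φ (1 ⊗ₜ p)) h0
    simp only [tmul_sum, tmul_smul, map_sum, LinearMap.map_smul_of_tower, tmul_zero, map_zero] at h1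
    exact h1
  have hz : Λ.lTensor C z = 0 := by
    simp only [z, map_sum, ← LinearMap.comp_apply, ← LinearMap.lTensor_comp, hΛs]
    simp only [← LinearMap.coe_lTensorHom, map_sum, LinearMap.sum_apply, map_smul, LinearMap.smul_apply]
    rw [Finset.sum_comm]
    refine Finset.sum_eq_zero fun k _ => ?_
    simp only [← map_smul, ← map_sum, hrel, map_zero]
  obtain ⟨w, hw⟩ := ((Module.Flat.lTensor_exact C
    (LinearMap.exact_subtype_ker_map Λ)) z).1 hz
  obtain ⟨k, hk⟩ := exists_one_tmul_approx J hC w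
  let g : (Fin b → R) →ₗ[R] Q := Fintype.linearCombination R (k : Fin b → Q)
  have hg : LinearMap.ker π ≤ LinearMap.ker g := by
    rw [← hr, Submodule.span_le]
    rintro _ ⟨l, rfl⟩
    have := congrFun (LinearMap.mem_ker.1 k.2) l
    simp only [Λ, LinearMap.pi_apply, LinearMap.coe_sum, Finset.sum_apply, LinearMap.smul_apply,
      LinearMap.proj_apply, Pi.zero_apply] at this
    show g (r l) = 0
    simpa [g, Fintype.linearCombination_apply] using this
  let f : P →ₗ[R] Q := (LinearMap.ker π).liftQ g hg ∘ₗ (π.quotKerEquivOfSurjective hπ).symm.toLinearMap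
  have hf : ∀ v, f (π v) = g v := fun v => by
    have h0 : (π.quotKerEquivOfSurjective hπ).symm (π v) = Submodule.Quotient.mk v :=
      (LinearEquiv.symm_apply_eq _).2 rfl
    simp only [f, LinearMap.comp_apply, LinearEquiv.coe_coe, h0, Submodule.liftQ_apply]
  refine ⟨f, fun p => ?_⟩
  obtain ⟨v, rfl⟩ := hπ p
  rw [hf, pi_eq_sum_univ' v, map_sum, map_sum, tmul_sum, map_sum, tmul_sum, ← Finset.sum_sub_distrib]
  refine sum_mem fun i _ => ?_
  simp only [map_smul, tmul_smul, LinearMap.map_smul_of_tower]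
  suffices hkey : Φ (1 ⊗ₜ[R] π (Pi.single i 1)) - 1 ⊗ₜ[R] g (Pi.single i 1) ∈
      (J • ⊤ : Submodule R (C ⊗[R] Q)) by
    have h9 := Submodule.smul_mem _ (v i) hkey
    rw [smul_sub] at h9
    exact h9
  have h1 := Submodule.mem_map_of_mem
    (f := ((LinearMap.proj (R := R) (φ := fun _ : Fin b => Q) i).comp (LinearMap.ker Λ).subtype).lTensor C) hk
  rw [Submodule.map_smul''] at h1
  have h2 := Submodule.smul_mono le_rfl le_top h1
  have h3 : ((LinearMap.proj (R := R) (φ := fun _ : Fin b => Q) i).comp (LinearMap.ker Λ).subtype).lTensor C w = x i := by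
    rw [LinearMap.lTensor_comp, LinearMap.comp_apply, hw]
    simp only [z, map_sum, ← LinearMap.comp_apply, ← LinearMap.lTensor_comp]
    rw [Finset.sum_eq_single i (fun j _ hj => ?_) (by simp)]
    · have : (LinearMap.proj i) ∘ₗ sQ i = LinearMap.id := LinearMap.ext fun q => by simp [sQ]
      rw [this, LinearMap.lTensor_id, LinearMap.id_apply]
    · have : (LinearMap.proj i) ∘ₗ sQ j = 0 :=
        LinearMap.ext fun q => by simp [sQ, Pi.single_eq_of_ne (Ne.symm hj)]
      rw [this, LinearMap.lTensor_zero, LinearMap.zero_apply]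
  rw [map_sub, h3, LinearMap.lTensor_tmul] at h2
  convert h2 using 3
  simp [g, Fintype.linearCombination_apply_single]

theorem mem_smul_top_of_one_tmul (ev : C →ₐ[R] R ⧸ J) {P : Type u} [AddCommGroup P] [Module R P]
    (x : P) (h : (1 : C) ⊗ₜ x ∈ (J • ⊤ : Submodule R (C ⊗[R] P))) :
    x ∈ (J • ⊤ : Submodule R P) := by
  let E := quotTensorEquivQuotSMul P J
  let θ : C ⊗[R] P →ₗ[R] P ⧸ (J • ⊤ : Submodule R P) :=
    E.toLinearMap ∘ₗ ev.toLinearMap.rTensor P
  have h1 : θ (1 ⊗ₜ x) = 0 := by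
    refine Submodule.smul_induction_on (p := fun z => θ z = 0) h (fun r hr z _ => ?_) (fun a b ha hb => ?_)
    · rw [map_smul]
      obtain ⟨y, hy⟩ := Submodule.Quotient.mk_surjective _ (θ z)
      rw [← hy, ← Submodule.Quotient.mk_smul, Submodule.Quotient.mk_eq_zero]
      exact Submodule.smul_mem_smul hr trivial
    · rw [map_add, ha, hb, add_zero]
  simp only [θ, LinearMap.comp_apply, LinearMap.rTensor_tmul, LinearEquiv.coe_coe,
    AlgHom.toLinearMap_apply, map_one] at h1
  rw [← map_one (Ideal.Quotient.mk J)] at h1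
  simp only [E, quotTensorEquivQuotSMul_mk_tmul, one_smul, Submodule.Quotient.mk_eq_zero] at h1
  exact h1

/-- Finite modules with isomorphic completions are isomorphic. -/
theorem linearEquiv_of_completion [IsNoetherianRing R] [Module.Flat R C]
    (hJ : J ≤ Ideal.jacobson ⊥) (ev : C →ₐ[R] R ⧸ J)
    (hC : ∀ c : C, ∃ r : R, c - algebraMap R C r ∈ J.map (algebraMap R C))
    {P Q : Type u} [AddCommGroup P] [Module R P] [AddCommGroup Q] [Module R Q] [Module.Finite R P]
    [Module.Finite R Q] (e : C ⊗[R] P ≃ₗ[C] C ⊗[R] Q) : Nonempty (P ≃ₗ[R] Q) := by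
  have key : ∀ {P Q : Type u} [AddCommGroup P] [Module R P] [AddCommGroup Q] [Module R Q]
      [Module.Finite R P] [Module.Finite R Q] (Φ : C ⊗[R] P →ₗ[C] C ⊗[R] Q)
      (Ψ : C ⊗[R] Q →ₗ[C] C ⊗[R] P), (∀ z, Ψ (Φ z) = z) →
      ∀ (f : P →ₗ[R] Q) (g : Q →ₗ[R] P),
      (∀ p, Φ (1 ⊗ₜ p) - 1 ⊗ₜ f p ∈ (J • ⊤ : Submodule R (C ⊗[R] Q))) →
      (∀ q, Ψ (1 ⊗ₜ q) - 1 ⊗ₜ g q ∈ (J • ⊤ : Submodule R (C ⊗[R] P))) →
      Function.Bijective (g ∘ₗ f) := by
    intro P Q _ _ _ _ _ _ Φ Ψ hΨΦ f g hf hg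
    refine OrzechProperty.bijective_of_surjective_endomorphism _ ?_
    rw [← LinearMap.range_eq_top]
    refine eq_top_iff.2 (Submodule.le_of_le_smul_of_le_jacobson_bot Module.Finite.fg_top hJ ?_)
    intro p _
    have h1 := Submodule.mem_map_of_mem (f := Ψ.restrictScalars R) (hf p)
    rw [Submodule.map_smul''] at h1
    have h2 := add_mem (Submodule.smul_mono le_rfl le_top h1) (hg (f p))
    rw [LinearMap.restrictScalars_apply, map_sub, hΨΦ, sub_add_sub_cancel, ← tmul_sub] at h2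
    refine Submodule.mem_sup.2 ⟨(g ∘ₗ f) p, LinearMap.mem_range_self _ _, p - g (f p),
      mem_smul_top_of_one_tmul J ev _ h2, ?_⟩
    simp
  obtain ⟨f, hf⟩ := exists_hom_approx J hC e.toLinearMap
  obtain ⟨g, hg⟩ := exists_hom_approx J hC e.symm.toLinearMap
  have h1 := key e.toLinearMap e.symm.toLinearMap e.symm_apply_apply f g hf hg
  have h2 := key e.symm.toLinearMap e.toLinearMap e.apply_symm_apply g f hg hf
  refine ⟨LinearEquiv.ofBijective f ⟨?_, ?_⟩⟩
  · exact Function.Injective.of_comp (f := g) (by simpa [LinearMap.coe_comp] using h1.1)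
  · exact Function.Surjective.of_comp (g := g) (by simpa [LinearMap.coe_comp] using h2.2)

end Groth.Agent.ElkikModLib
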