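import Groth.Agent.ElkikModLib.Sheaf
import Groth.Agent.ElkikModLib.Complete
import Groth.Agent.AdicCongr.Basic
import Groth.Agent.RegLocal.Completion

/-!
Locally free sheaves on `U ⊇ Spec A − V(J)` descend along a map of Noetherian Henselian pairs with the
same completion.
-/

set_option autoImplicit false
set_option linter.all false
set_option backward.isDefEq.respectTransparency false
set_option maxHeartbeats 800000

universe u

open CategoryTheory CategoryTheory.Limits AlgebraicGeometry TopologicalSpace TensorProduct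
open Groth.Agent.PullbackMod Groth.Agent.GenBCLib

noncomputable section

namespace Groth.Agent.ElkikModLib

theorem exists_locFree_descend_pair (A A' : Type u) [CommRing A] [CommRing A'] [IsNoetherianRing A]
    [IsNoetherianRing A'] [Algebra A A'] (J : Ideal A) [HenselianRing A J]
    [HenselianRing A' (J.map (algebraMap A A'))]
    (hq : ∀ n : ℕ, Function.Bijective
      (Ideal.quotientMap (Ideal.map (algebraMap A A') (J ^ n)) (algebraMap A A') Ideal.le_comap_map))
    (U : (Spec (CommRingCat.of A)).Opens) (hU : ∀ p : PrimeSpectrum A, ¬ J ≤ p.asIdeal → p ∈ U)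
    (n : ℕ)
    (E' : (↑((Spec.map (CommRingCat.ofHom (algebraMap A A'))) ⁻¹ᵁ U) : Scheme.{u}).Modules)
    (hE' : FlatMod.IsFinLocFreeOfRank n E') :
    ∃ E : (U : Scheme.{u}).Modules, FlatMod.IsFinLocFreeOfRank n E ∧
      Nonempty ((Scheme.Modules.pullback
        ((Spec.map (CommRingCat.ofHom (algebraMap A A'))) ∣_ U)).obj E ≅ E') := by
  let J' := J.map (algebraMap A A')
  let C := AdicCompletion J A
  let C' := AdicCompletion J' A'
  haveI : IsNoetherianRing C := RegLocal.isNoetherianRing_completion A J
  -- the common completion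
  obtain ⟨e⟩ : Nonempty (C ≃ₐ[A] C') := AdicCongr.exists_algEquiv_of_bijective J J'
    (Algebra.ofId A A') rfl
    (fun m y => by
      obtain ⟨x, hx⟩ := (hq m).2 (Ideal.Quotient.mk _ y)
      obtain ⟨x, rfl⟩ := Ideal.Quotient.mk_surjective x
      rw [Ideal.quotientMap_mk, Ideal.Quotient.eq, Ideal.map_pow] at hx
      exact ⟨x, hx⟩)
    (fun m x hx => by
      have h1 : Ideal.quotientMap (Ideal.map (algebraMap A A') (J ^ m)) (algebraMap A A')
          Ideal.le_comap_map (Ideal.Quotient.mk (J ^ m) x) = 0 := by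
        rw [Ideal.quotientMap_mk, Ideal.Quotient.eq_zero_iff_mem, Ideal.map_pow]
        exact hx
      exact Ideal.Quotient.eq_zero_iff_mem.1 ((hq m).1 (h1.trans (map_zero _).symm)))
  letI algC : Algebra A' C := ((e.symm : C' →+* C).comp (algebraMap A' C')).toAlgebra
  haveI : IsScalarTower A A' C := .of_algebraMap_eq fun a => by
    show algebraMap A C a = e.symm (algebraMap A' C' (algebraMap A A' a))
    rw [← IsScalarTower.algebraMap_apply A A' C', AlgEquiv.commutes]
  let e' : C ≃ₐ[A'] C' := AlgEquiv.ofRingEquiv (f := e.toRingEquiv) fun a => by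
    show e (e.symm (algebraMap A' C' a)) = _
    rw [AlgEquiv.apply_symm_apply]
  haveI : Module.Flat A' C' := AdicCompletion.flat_of_isNoetherian J'
  haveI : Module.Flat A' C := Module.Flat.of_linearEquiv e'.toLinearEquiv
  let ev : C →ₐ[A'] A' ⧸ J' := ((AdicCompletion.evalOneₐ J').restrictScalars A').comp e'.toAlgHom
  have hC : ∀ c : C, ∃ r : A', c - algebraMap A' C r ∈ J'.map (algebraMap A' C) := by
    intro c
    obtain ⟨r, hr⟩ := Ideal.Quotient.mk_surjective (AdicCompletion.evalₐ J' 1 (e' c))
    refine ⟨r, ?_⟩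
    have hfg : J'.FG := IsNoetherian.noetherian _
    let z : C' := e' c - algebraMap A' C' r
    have h0 : AdicCompletion.evalₐ J' 1 z = 0 := by
      rw [map_sub, AlgHom.commutes, sub_eq_zero, ← hr]
      rfl
    have h1 : AdicCompletion.eval J' A' 1 z = 0 := by
      have hh : (J' ^ 1 • ⊤ : Ideal A') = J' ^ 1 := by ext; simp
      rw [← AdicCompletion.factor_evalₐ_eq_eval J' z hh.ge, h0, map_zero]
    have h2 : z ∈ (J' ^ 1 • ⊤ : Submodule A' C') := by
      rw [AdicCompletion.pow_smul_top_eq_ker_eval hfg]; exact h1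
    rw [Ideal.smul_top_eq_map, Submodule.restrictScalars_mem, pow_one] at h2
    have h3 := Ideal.mem_map_of_mem (e'.symm : C' →+* C) h2
    rw [Ideal.map_map, show (e'.symm : C' →+* C).comp (algebraMap A' C') = algebraMap A' C from
      RingHom.ext fun a => e'.symm.commutes a] at h3
    have h5 : (e'.symm : C' →+* C) z = c - algebraMap A' C r := by
      show e'.symm (e' c - algebraMap A' C' r) = _
      rw [map_sub, AlgEquiv.commutes, AlgEquiv.symm_apply_apply]
    rw [h5] at h3
    exact h3
  -- the ideal of the complement of `U`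
  let SU : Set (PrimeSpectrum A) := SetLike.coe U
  let JU : Ideal A := PrimeSpectrum.vanishingIdeal SUᶜ
  have hJU : ∀ p : PrimeSpectrum A, p ∈ U ↔ ¬ JU ≤ p.asIdeal := by
    intro p
    have hcl : PrimeSpectrum.zeroLocus (JU : Set A) = SUᶜ := by
      rw [PrimeSpectrum.zeroLocus_vanishingIdeal_eq_closure]
      exact (U.isOpen : IsOpen SU).isClosed_compl.closure_eq
    have := Set.ext_iff.1 hcl p
    simp only [PrimeSpectrum.mem_zeroLocus, SetLike.coe_subset_coe, Set.mem_compl_iff, SetLike.mem_coe] at this
    rw [this, not_not]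
    exact Iff.rfl
  have hJle : J ≤ JU := by
    intro x hx
    rw [PrimeSpectrum.mem_vanishingIdeal]
    intro p hp
    exact not_not.1 (fun h => hp (hU p fun hle => h (hle hx)))
  -- descent
  obtain ⟨N, _, _, hNf, hNfree, ⟨eW⟩⟩ := exists_module_rank A' _ n E' hE'
  haveI : Module.Finite A' N := hNf
  obtain ⟨M, _, _, hMf, hMfp, hMfree, ⟨eM⟩⟩ := exists_descend_rank A A J J
    (by rw [Algebra.algebraMap_self, Ideal.map_id]) JU hJle n (C ⊗[A'] N) (fun p _ hp => by
      let p' : PrimeSpectrum A' := ⟨p.comap (algebraMap A' C), inferInstance⟩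
      have hp' : p' ∈ (Spec.map (CommRingCat.ofHom (algebraMap A A'))) ⁻¹ᵁ U := by
        refine (hJU _).2 fun h => hp (Ideal.map_le_iff_le_comap.2 fun x hx => ?_)
        have h1 : algebraMap A A' x ∈ p.comap (algebraMap A' C) := h hx
        rw [Ideal.mem_comap, ← IsScalarTower.algebraMap_apply] at h1
        exact h1
      let L' := Localization.AtPrime p'.asIdeal
      let L := Localization.AtPrime p
      letI : Algebra L' L := (Localization.localRingHom p'.asIdeal p (algebraMap A' C) rfl).toAlgebra
      haveI : IsScalarTower A' L' L := .of_algebraMap_eq fun x => by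
        show algebraMap A' L x = Localization.localRingHom p'.asIdeal p (algebraMap A' C) rfl (algebraMap A' L' x)
        rw [Localization.localRingHom_to_map]
        exact IsScalarTower.algebraMap_apply A' C L x
      obtain ⟨i⟩ : FreeRk A' N L n := (hNfree p' hp').mono
      exact ⟨AlgebraTensorModule.cancelBaseChange A' C L L N ≪≫ₗ i⟩)
  haveI : Module.Finite A' (A' ⊗[A] M) := inferInstance
  obtain ⟨eP⟩ := linearEquiv_of_completion J' (HenselianRing.jac (I := J')) ev hC
    (P := A' ⊗[A] M) (Q := N) (AlgebraTensorModule.cancelBaseChange A A' C C M ≪≫ₗ eM)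
  obtain ⟨i⟩ := nonempty_pullback_tilde A A' U M N eP
  exact ⟨_, isFinLocFreeOfRank_tilde A M U n (fun q hq => hMfree q.asIdeal ((hJU q).1 hq)),
    ⟨i ≪≫ eW.symm⟩⟩

end Groth.Agent.ElkikModLib
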